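import Mathlib

set_option autoImplicit false

open Topology TopologicalSpace Order

namespace Groth.Agent.H4KrullOpen

variable {X : Type*} [TopologicalSpace X]

/-- A chain of irreducible closed subsets whose bottom meets an open set bounds the dimension of
that open set from below. -/
theorem length_le_topologicalKrullDim_open (U : Opens X) (l : LTSeries (IrreducibleCloseds X))
    (hx : (((l.head : IrreducibleCloseds X) : Set X) ∩ (U : Set X)).Nonempty) :
    (l.length : WithBot ℕ∞) ≤ topologicalKrullDim ↥(U : Set X) := by
  have hne : ∀ i, (((l i : IrreducibleCloseds X) : Set X) ∩ (U : Set X)).Nonempty := fun i =>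
    hx.mono (Set.inter_subset_inter_left _ (l.monotone (Fin.zero_le i)))
  have hU : IsOpenEmbedding (Subtype.val : ↥(U : Set X) → X) := U.isOpen.isOpenEmbedding_subtypeVal
  let G : Fin (l.length + 1) → IrreducibleCloseds ↥(U : Set X) := fun i =>
    ⟨Subtype.val ⁻¹' ((l i : IrreducibleCloseds X) : Set X),
      ⟨by obtain ⟨x, hx, hxU⟩ := hne i; exact ⟨⟨x, hxU⟩, hx⟩,
        (l i).isIrreducible.2.preimage hU⟩,
      (l i).isClosed.preimage continuous_subtype_val⟩
  have hG : StrictMono G := by
    intro i j hij
    refine lt_of_le_of_ne (fun x hx => (l.strictMono hij).le hx) fun he => (l.strictMono hij).ne ?_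
    refine IrreducibleCloseds.ext (Set.Subset.antisymm (l.strictMono hij).le ?_)
    refine (subset_closure_inter_of_isPreirreducible_of_isOpen (l j).isIrreducible.2 U.isOpen
      (hne j)).trans (closure_minimal ?_ (l i).isClosed)
    rintro x ⟨hxj, hxU⟩
    have : (⟨x, hxU⟩ : ↥(U : Set X)) ∈ ((G j : IrreducibleCloseds _) : Set _) := hxj
    rw [← he] at this
    exact this
  exact (LTSeries.mk l.length G hG).length_le_krullDim

end Groth.Agent.H4KrullOpen
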